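import Cfsg.Agent.H161.Five.CaseOne
import Cfsg.Agent.H982.Five720

/-!
# S3568, `case_one`
-/

set_option autoImplicit false

open Pointwise

namespace Cfsg.Agent.H161.Five

open Cfsg.Agent.H399 Cfsg.Agent.H209.Five

variable {G : Type*} [Group G]

theorem case_one [Finite G] {A B : Subgroup G} {g : G} (h : NS A B g)
    (hK : core A (A ⊓ B) ⊓ core B (B ⊓ A) = ⊥) :
    Nat.card A = 60 ∨ Nat.card A = 120 ∨ Nat.card A = 1440 ∨ Nat.card A = 2880 :=
  case_one' h hK fun _ _ h₁ h₂ hc hi g hg₁ hg₂ hC hN hD =>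
    Cfsg.Agent.H982.Five720.e720 h₁ h₂ hc hi g hg₁ hg₂ hC hN hD

end Cfsg.Agent.H161.Five
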