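import Mathlib

/-!
# Facts on permutations of five points (S3568, `case_one`)
-/

set_option autoImplicit false

namespace Cfsg.Agent.H161.Five

open Equiv

/-- a 3-cycle fixing 0 -/
def c0 : Perm (Fin 5) := swap 1 2 * swap 2 3

theorem c0_spec : c0 ^ 3 = 1 ∧ c0 ≠ 1 ∧ c0 0 = 0 ∧ Perm.sign c0 = 1 := by decide +kernel

/-- the pairs of `L1` -/
def Q1 (ρ a : Perm (Fin 5)) : Prop := (Perm.sign a = 1 ∧ a 0 = 0) ∧ (a * c0 = ρ * a ∨ a * c0 = ρ⁻¹ * a)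

instance : DecidableRel Q1 := fun ρ a => by unfold Q1; infer_instance

/-- the statement of `L1` -/
def R1 (ρ : Perm (Fin 5)) : Prop := ρ ^ 3 = 1 → ρ 0 = 0 → ρ ≠ 1 → ∃ a : Perm (Fin 5), Q1 ρ a

instance : DecidablePred R1 := fun ρ => by unfold R1; infer_instance

theorem L1' : ∀ ρ : Perm (Fin 5), R1 ρ := by decide +kernel

theorem L1 (ρ : Perm (Fin 5)) (h1 : ρ ^ 3 = 1) (h2 : ρ 0 = 0) (h3 : ρ ≠ 1) :
    ∃ a : Perm (Fin 5), Perm.sign a = 1 ∧ a 0 = 0 ∧ (a * c0 * a⁻¹ = ρ ∨ a * c0 * a⁻¹ = ρ⁻¹) := by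
  obtain ⟨a, ⟨h4, h5⟩, h6⟩ := L1' ρ h1 h2 h3
  exact ⟨a, h4, h5, h6.imp (fun h => mul_inv_eq_iff_eq_mul.2 h) fun h => mul_inv_eq_iff_eq_mul.2 h⟩

theorem L2 : ∀ σ : Perm (Fin 5), σ ^ 3 = 1 → σ ≠ 1 → σ 0 = 0 → ∀ ρ : Perm (Fin 5), ρ 0 = 0 → σ * ρ = ρ * σ →
    ρ ^ 3 = 1 := by decide +kernel

theorem L3 : ∀ σ : Perm (Fin 5), Perm.sign σ = 1 → σ 0 = 0 → ∃ a : Perm (Fin 5), (a ^ 3 = 1 ∧ a 0 = 0) ∧
    ((a⁻¹ * σ) ^ 3 = 1 ∧ (a⁻¹ * σ) 0 = 0) := by decide +kernel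

theorem L4 : ∀ σ : Perm (Fin 5), Perm.sign σ = 1 → ∃ a : Perm (Fin 5), a ^ 3 = 1 ∧ (a⁻¹ * σ) ^ 3 = 1 := by decide +kernel

/-- the four-group -/
def V4 (σ : Perm (Fin 5)) : Prop := Perm.sign σ = 1 ∧ σ 0 = 0 ∧ σ * σ = 1

instance : DecidablePred V4 := fun σ => by unfold V4; infer_instance

theorem L5 : ∀ x : Perm (Fin 5), V4 x → ∀ y : Perm (Fin 5), V4 y → (x * y) * (x * y) = 1 := by decide +kernel

theorem L6 : ∀ ρ : Perm (Fin 5), (∀ v, V4 v → ρ * v = v * ρ) → V4 ρ := by decide +kernel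

theorem L7 : ∀ ρ : Perm (Fin 5), (∀ v, V4 v → V4 (ρ * v * ρ⁻¹)) → ρ 0 = 0 := by decide +kernel

theorem L8 : ∀ ρ : Perm (Fin 5), (∀ a, Perm.sign a = 1 → ρ * a = a * ρ) → ρ = 1 := by decide +kernel

theorem L9 : ∀ ρ : Perm (Fin 5), (∀ a, Perm.sign a = 1 → a 0 = 0 → ρ * a = a * ρ) → ρ 0 = 0 → ρ = 1 := by decide +kernel

theorem card3 : Fintype.card {σ : Perm (Fin 5) // σ ^ 3 = 1 ∧ σ 0 = 0} = 9 := by decide +kernel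

theorem card4 : Fintype.card {σ : Perm (Fin 5) // V4 σ} = 4 := by decide +kernel

end Cfsg.Agent.H161.Five
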