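import Cfsg.Agent.H209.Five.Hom
import Cfsg.Agent.H161.Five.PermFive

/-!
# S3568, `case_one`: both local actions contain `A₅`, faithful amalgam
-/

set_option autoImplicit false
set_option linter.unusedSectionVars false

open Pointwise

namespace Cfsg.Agent.H161.Five

open Cfsg.Agent.H399 Cfsg.Agent.H209.Five Equiv

variable {G : Type*} [Group G] [Finite G]

/-- the action on five points as a function on `G` -/
structure Act (B C K : Subgroup G) (f : G → Perm (Fin 5)) : Prop where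
  CB : C ≤ B
  KC : K ≤ C
  mul : ∀ x ∈ B, ∀ y ∈ B, f (x * y) = f x * f y
  stab : ∀ x ∈ B, (x ∈ C ↔ f x 0 = 0)
  ker : ∀ x ∈ B, (x ∈ K ↔ f x = 1)
  alt : ∀ σ : Perm (Fin 5), Perm.sign σ = 1 → ∃ x ∈ B, f x = σ

namespace Act

variable {B C K : Subgroup G} {f : G → Perm (Fin 5)} (h : Act B C K f)

include h

theorem one : f 1 = 1 := (h.ker 1 B.one_mem).1 K.one_mem

theorem inv {x : G} (hx : x ∈ B) : f x⁻¹ = (f x)⁻¹ := by
  rw [eq_inv_iff_mul_eq_one, ← h.mul _ (B.inv_mem hx) _ hx, inv_mul_cancel, h.one]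

theorem conj {x y : G} (hx : x ∈ B) (hy : y ∈ B) : f (x * y * x⁻¹) = f x * f y * (f x)⁻¹ := by
  rw [h.mul _ (B.mul_mem hx hy) _ (B.inv_mem hx), h.mul _ hx _ hy, h.inv hx]

theorem pow {x : G} (hx : x ∈ B) (n : ℕ) : f (x ^ n) = f x ^ n := by
  induction n with
  | zero => rw [pow_zero, pow_zero, h.one]
  | succ n ih => rw [pow_succ, pow_succ, h.mul _ (B.pow_mem hx n) _ hx, ih]

theorem zero {x : G} (hx : x ∈ C) : f x 0 = 0 := (h.stab x (h.CB hx)).1 hx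

theorem KB : K ≤ B := h.KC.trans h.CB

end Act

theorem exists_act {B C : Subgroup G} (h5 : C.relIndex B = 5) (hCB : C ≤ B) (h3 : 3 ∣ (core B C).relIndex B) :
    ∃ f : G → Perm (Fin 5), Act B C (core B C) f ∧ ((core B C).relIndex B = 60 ∨ (core B C).relIndex B = 120) ∧
      ((core B C).relIndex B = 60 → ∀ x ∈ B, Perm.sign (f x) = 1) := by
  classical
  obtain ⟨φ, hφ⟩ := exists_hom5 h5
  have halt := hφ.alt h3
  refine ⟨fun x => if hx : x ∈ B then φ ⟨x, hx⟩ else 1, ⟨hCB, core_le B C, ?_, ?_, ?_, ?_⟩, ?_, ?_⟩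
  · intro x hx y hy
    simp only [dif_pos hx, dif_pos hy, dif_pos (B.mul_mem hx hy)]
    rw [← map_mul]
    rfl
  · intro x hx
    simp only [dif_pos hx]
    exact hφ.stab ⟨x, hx⟩
  · intro x hx
    simp only [dif_pos hx]
    exact hφ.ker ⟨x, hx⟩
  · intro σ hσ
    obtain ⟨a, ha, haσ⟩ := hφ.exists_alt h3 σ hσ
    refine ⟨a, ha, ?_⟩
    simp only [dif_pos ha]
    exact haσ
  · have h1 : Nat.card (alternatingGroup (Fin 5)) ∣ Nat.card φ.range := Subgroup.card_dvd_of_le halt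
    have h2 : Nat.card (alternatingGroup (Fin 5)) = 60 := by
      have h2 := two_mul_nat_card_alternatingGroup (α := Fin 5)
      rw [card_perm5] at h2
      omega
    have h4 := hφ.relIndex_dvd
    rw [hφ.card_range, h2] at h1
    obtain ⟨c, hc⟩ := h1
    rw [hc] at h4
    have h6 : 60 * c ∣ 60 * 2 := h4
    have h7 := (Nat.mul_dvd_mul_iff_left (by norm_num)).1 h6
    rcases (Nat.dvd_prime Nat.prime_two).1 h7 with h8 | h8
    · left; rw [hc, h8]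
    · right; rw [hc, h8]
  · intro h60 x hx
    simp only [dif_pos hx]
    have h2 : Nat.card (alternatingGroup (Fin 5)) = 60 := by
      have h2 := two_mul_nat_card_alternatingGroup (α := Fin 5)
      rw [card_perm5] at h2
      omega
    have h4 : φ.range = alternatingGroup (Fin 5) := by
      symm
      apply Subgroup.eq_of_le_of_card_ge halt
      rw [hφ.card_range, h60, h2]
    have h6 : φ ⟨x, hx⟩ ∈ alternatingGroup (Fin 5) := by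
      rw [← h4]
      exact ⟨_, rfl⟩
    exact Equiv.Perm.mem_alternatingGroup.1 h6

/-- the notation of this file -/
structure Cfg (A B D K₁ K₂ : Subgroup G) (f₁ f₂ : G → Perm (Fin 5)) : Prop where
  a₁ : Act A D K₁ f₁
  a₂ : Act B D K₂ f₂
  n₁ : A ≤ Nm K₁
  n₂ : B ≤ Nm K₂
  inf : K₁ ⊓ K₂ = ⊥
  card : Nat.card K₁ = Nat.card K₂

namespace Cfg

variable {A B D K₁ K₂ : Subgroup G} {f₁ f₂ : G → Perm (Fin 5)} (h : Cfg A B D K₁ K₂ f₁ f₂)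

include h

theorem symm : Cfg B A D K₂ K₁ f₂ f₁ := ⟨h.a₂, h.a₁, h.n₂, h.n₁, by rw [inf_comm]; exact h.inf, h.card.symm⟩

theorem eq_one {x : G} (h1 : x ∈ K₁) (h2 : x ∈ K₂) : x = 1 := by
  have : x ∈ K₁ ⊓ K₂ := ⟨h1, h2⟩
  rw [h.inf, Subgroup.mem_bot] at this
  exact this

theorem comm {x y : G} (hx : x ∈ K₁) (hy : y ∈ K₂) : x * y = y * x := by
  have h1 : x * y * x⁻¹ * y⁻¹ = 1 := by
    apply h.eq_one
    · have h2 := le_Nm.1 h.n₁ y (h.a₁.CB (h.a₂.KC hy)) x⁻¹ (K₁.inv_mem hx)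
      have h3 := K₁.mul_mem hx h2
      simpa [mul_assoc] using h3
    · have h2 := le_Nm.1 h.n₂ x (h.a₂.CB (h.a₁.KC hx)) y hy
      exact K₂.mul_mem h2 (K₂.inv_mem hy)
  rw [mul_inv_eq_one, mul_inv_eq_iff_eq_mul] at h1
  exact h1

/-- `f₂` is injective on `K₁` -/
theorem inj {x y : G} (hx : x ∈ K₁) (hy : y ∈ K₁) (hxy : f₂ x = f₂ y) : x = y := by
  have hxB := h.a₂.CB (h.a₁.KC hx)
  have hyB := h.a₂.CB (h.a₁.KC hy)
  have h1 : x * y⁻¹ = 1 := by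
    apply h.eq_one (K₁.mul_mem hx (K₁.inv_mem hy))
    rw [h.a₂.ker _ (B.mul_mem hxB (B.inv_mem hyB)), h.a₂.mul _ hxB _ (B.inv_mem hyB), h.a₂.inv hyB, hxy, mul_inv_cancel]
  exact mul_inv_eq_one.1 h1

theorem memB {x : G} (hx : x ∈ K₁) : x ∈ B := h.a₂.CB (h.a₁.KC hx)

theorem D_le : D ≤ Nm K₁ := h.a₁.CB.trans h.n₁

/-- `3 ∤ |K₁|` implies `K₁ = 1`. -/
theorem three_or (h3 : ¬ 3 ∣ Nat.card K₁) : K₁ = ⊥ := by
  classical
  by_contra hne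
  have hne2 : K₂ ≠ ⊥ := by
    intro h0
    apply hne
    rw [← Subgroup.card_eq_one, h.card, h0, Subgroup.card_bot]
  obtain ⟨y, hy, hy1⟩ : ∃ y : G, y ∈ K₂ ∧ y ≠ 1 := by
    obtain ⟨y, hy⟩ := Subgroup.ne_bot_iff_exists_ne_one.1 hne2
    exact ⟨y, y.2, fun h => hy (Subtype.ext h)⟩
  have hρ : f₁ y ≠ 1 := fun h1 => hy1 (h.eq_one ((h.a₁.ker _ (h.a₁.CB (h.a₂.KC hy))).2 h1) hy)
  -- the centralizer of `K₁` in `A`
  let C : Subgroup G := A ⊓ Subgroup.centralizer (K₁ : Set G)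
  have hCm : ∀ {x : G}, x ∈ C ↔ x ∈ A ∧ ∀ k ∈ K₁, k * x = x * k := by
    intro x
    rw [Subgroup.mem_inf, Subgroup.mem_centralizer_iff]
    rfl
  have hyC : (y : G) ∈ C := hCm.2 ⟨h.a₁.CB (h.a₂.KC hy), fun k hk => h.comm hk hy⟩
  have hCn : ∀ a ∈ A, ∀ c ∈ C, a * c * a⁻¹ ∈ C := by
    intro a ha c hc
    rw [hCm] at hc ⊢
    refine ⟨A.mul_mem (A.mul_mem ha hc.1) (A.inv_mem ha), fun k hk => ?_⟩
    have h1 : a⁻¹ * k * a ∈ K₁ := by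
      have := le_Nm.1 h.n₁ a⁻¹ (A.inv_mem ha) k hk
      rwa [inv_inv] at this
    have h2 := hc.2 _ h1
    calc k * (a * c * a⁻¹) = a * ((a⁻¹ * k * a) * c) * a⁻¹ := by group
      _ = a * (c * (a⁻¹ * k * a)) * a⁻¹ := by rw [h2]
      _ = a * c * a⁻¹ * k := by group
  -- the image of `C` contains the alternating group
  let N : Subgroup (alternatingGroup (Fin 5)) :=
    { carrier := {σ | ∃ c ∈ C, f₁ c = (σ : Perm (Fin 5))}
      one_mem' := ⟨1, C.one_mem, h.a₁.one⟩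
      mul_mem' := by
        rintro a b ⟨c, hc, hc'⟩ ⟨d, hd, hd'⟩
        exact ⟨c * d, C.mul_mem hc hd, by rw [h.a₁.mul _ (hCm.1 hc).1 _ (hCm.1 hd).1, hc', hd']; rfl⟩
      inv_mem' := by
        rintro a ⟨c, hc, hc'⟩
        exact ⟨c⁻¹, C.inv_mem hc, by rw [h.a₁.inv (hCm.1 hc).1, hc']; rfl⟩ }
  have hNm : ∀ σ : alternatingGroup (Fin 5), σ ∈ N ↔ ∃ c ∈ C, f₁ c = (σ : Perm (Fin 5)) := fun σ => Iff.rfl
  have hNn : N.Normal := by
    refine ⟨fun σ hσ τ => ?_⟩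
    obtain ⟨c, hc, hc'⟩ := (hNm σ).1 hσ
    obtain ⟨a, ha, ha'⟩ := h.a₁.alt (τ : Perm (Fin 5)) (Equiv.Perm.mem_alternatingGroup.1 τ.2)
    refine (hNm _).2 ⟨a * c * a⁻¹, hCn a ha c hc, ?_⟩
    rw [h.a₁.conj ha (hCm.1 hc).1, ha', hc']
    rfl
  have hNbot : N ≠ ⊥ := by
    intro hb
    apply hρ
    apply L8
    intro a ha
    obtain ⟨b, hb1, hb2⟩ := h.a₁.alt a ha
    have h1 : (y : G) * (b * (y : G)⁻¹ * b⁻¹) ∈ C := C.mul_mem hyC (hCn b hb1 _ (C.inv_mem hyC))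
    have h2 : f₁ ((y : G) * (b * (y : G)⁻¹ * b⁻¹)) = f₁ y * (a * (f₁ y)⁻¹ * a⁻¹) := by
      rw [h.a₁.mul _ (hCm.1 hyC).1 _ (hCm.1 (hCn b hb1 _ (C.inv_mem hyC))).1, h.a₁.conj hb1 (A.inv_mem (hCm.1 hyC).1),
        h.a₁.inv (hCm.1 hyC).1, hb2]
    have h4 : f₁ y * (a * (f₁ y)⁻¹ * a⁻¹) ∈ alternatingGroup (Fin 5) := by
      rw [Equiv.Perm.mem_alternatingGroup]
      simp only [map_mul, Equiv.Perm.sign_inv, ha, one_mul, mul_one]
      exact Int.units_mul_self _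
    have h5 : (⟨_, h4⟩ : alternatingGroup (Fin 5)) ∈ N := (hNm _).2 ⟨_, h1, h2⟩
    rw [hb, Subgroup.mem_bot] at h5
    have h6 := congrArg Subtype.val h5
    simp only at h6
    have h7 : f₁ y * (a * (f₁ y)⁻¹ * a⁻¹) = 1 := h6
    calc f₁ y * a = (f₁ y * (a * (f₁ y)⁻¹ * a⁻¹)) * (a * f₁ y) := by group
      _ = a * f₁ y := by rw [h7, one_mul]
  have hsimple : IsSimpleGroup (alternatingGroup (Fin 5)) := alternatingGroup.isSimpleGroup (by simp)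
  have hNtop : N = ⊤ := (hNn.eq_bot_or_eq_top).resolve_left hNbot
  obtain ⟨c, hc, hc'⟩ : ∃ c ∈ C, f₁ c = c0 := by
    have : (⟨c0, Equiv.Perm.mem_alternatingGroup.2 c0_spec.2.2.2⟩ : alternatingGroup (Fin 5)) ∈ N := by
      rw [hNtop]; trivial
    exact (hNm _).1 this
  have hcA := (hCm.1 hc).1
  have hcD : c ∈ D := by
    rw [h.a₁.stab c hcA, hc']
    exact c0_spec.2.2.1
  have h3o : 3 ∣ orderOf c := by
    have h1 : orderOf c0 = 3 := orderOf_eq_prime c0_spec.1 c0_spec.2.1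
    rw [← h1]
    apply orderOf_dvd_of_pow_eq_one
    rw [← hc', ← h.a₁.pow hcA, pow_orderOf_eq_one, h.a₁.one]
  have h3C : 3 ∣ Nat.card ↥(C ⊓ D) := by
    refine h3o.trans ?_
    have hcCD : c ∈ C ⊓ D := ⟨hc, hcD⟩
    have := orderOf_dvd_natCard (⟨c, hcCD⟩ : ↥(C ⊓ D))
    rwa [Subgroup.orderOf_mk] at this
  have : Fact (Nat.Prime 3) := ⟨Nat.prime_three⟩
  obtain ⟨d, hd⟩ := exists_prime_orderOf_dvd_card' 3 h3C
  have hdC : (d : G) ∈ C := d.2.1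
  have hdD : (d : G) ∈ D := d.2.2
  have hdB : (d : G) ∈ B := h.a₂.CB hdD
  have hdo : orderOf (d : G) = 3 := by rw [Subgroup.orderOf_coe, hd]
  have hd3 : (d : G) ^ 3 = 1 := by rw [← hdo, pow_orderOf_eq_one]
  have hσ3 : f₂ d ^ 3 = 1 := by rw [← h.a₂.pow hdB, hd3, h.a₂.one]
  have hσ1 : f₂ d ≠ 1 := by
    intro h1
    apply h3
    rw [h.card]
    have h2 : (d : G) ∈ K₂ := (h.a₂.ker _ hdB).2 h1
    have := orderOf_dvd_natCard (⟨d, h2⟩ : K₂)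
    rwa [Subgroup.orderOf_mk, hdo] at this
  apply hne
  rw [eq_bot_iff]
  intro x hx
  rw [Subgroup.mem_bot]
  have hxB := h.memB hx
  have h1 : f₂ x ^ 3 = 1 := by
    refine L2 (f₂ d) hσ3 hσ1 (h.a₂.zero hdD) (f₂ x) (h.a₂.zero (h.a₁.KC hx)) ?_
    rw [← h.a₂.mul _ hdB _ hxB, ← h.a₂.mul _ hxB _ hdB, (hCm.1 hdC).2 x hx]
  have h2 : x ^ 3 = 1 := by
    apply h.eq_one (K₁.pow_mem hx 3)
    rw [h.a₂.ker _ (B.pow_mem hxB 3), h.a₂.pow hxB, h1]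
  have h4 : orderOf x ∣ Nat.gcd 3 (Nat.card K₁) := by
    apply Nat.dvd_gcd (orderOf_dvd_of_pow_eq_one h2)
    have := orderOf_dvd_natCard (⟨x, hx⟩ : K₁)
    rwa [Subgroup.orderOf_mk] at this
  rw [(Nat.prime_three.coprime_iff_not_dvd).2 h3] at h4
  exact orderOf_eq_one_iff.1 (Nat.dvd_one.1 h4)

/-- `3 ∣ |K₁|`: the image of `K₁` contains all 3-cycles fixing 0. -/
theorem three_mem (h3 : 3 ∣ Nat.card K₁) {ρ : Perm (Fin 5)} (hρ : ρ ^ 3 = 1) (hρ0 : ρ 0 = 0) :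
    ∃ x ∈ K₁, f₂ x = ρ := by
  have : Fact (Nat.Prime 3) := ⟨Nat.prime_three⟩
  -- conjugation by even permutations fixing 0
  have hconj : ∀ a : Perm (Fin 5), Perm.sign a = 1 → a 0 = 0 → ∀ σ, (∃ x ∈ K₁, f₂ x = σ) →
      ∃ x ∈ K₁, f₂ x = a * σ * a⁻¹ := by
    rintro a ha ha0 σ ⟨x, hx, rfl⟩
    obtain ⟨b, hb, hb'⟩ := h.a₂.alt a ha
    have hbD : b ∈ D := (h.a₂.stab b hb).2 (by rw [hb', ha0])
    refine ⟨b * x * b⁻¹, le_Nm.1 h.D_le b hbD x hx, ?_⟩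
    rw [h.a₂.conj hb (h.memB hx), hb']
  have hinv : ∀ σ, (∃ x ∈ K₁, f₂ x = σ) → ∃ x ∈ K₁, f₂ x = σ⁻¹ := by
    rintro σ ⟨x, hx, rfl⟩
    exact ⟨x⁻¹, K₁.inv_mem hx, h.a₂.inv (h.memB hx)⟩
  have h0 : ∃ x ∈ K₁, f₂ x = c0 := by
    obtain ⟨x, hx⟩ := exists_prime_orderOf_dvd_card' 3 h3
    have hxo : orderOf (x : G) = 3 := by rw [Subgroup.orderOf_coe, hx]
    have hx3 : (x : G) ^ 3 = 1 := by rw [← hxo, pow_orderOf_eq_one]
    have hxB := h.memB x.2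
    have h1 : f₂ x ^ 3 = 1 := by rw [← h.a₂.pow hxB, hx3, h.a₂.one]
    have h2 : f₂ x ≠ 1 := by
      intro h2
      have h4 : (x : G) = 1 := h.inj x.2 K₁.one_mem (by rw [h2, h.a₂.one])
      rw [h4, orderOf_one] at hxo
      omega
    obtain ⟨a, ha, ha0, ha'⟩ := L1 (f₂ x) h1 (h.a₂.zero (h.a₁.KC x.2)) h2
    have hai : Perm.sign a⁻¹ = 1 := by rw [Equiv.Perm.sign_inv, ha]
    have hai0 : a⁻¹ 0 = 0 := by rw [Equiv.Perm.inv_eq_iff_eq, ha0]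
    rcases ha' with ha' | ha'
    · have h4 := hconj a⁻¹ hai hai0 _ ⟨x, x.2, rfl⟩
      rw [← ha'] at h4
      simpa [mul_assoc] using h4
    · have h4 := hconj a⁻¹ hai hai0 _ (hinv _ ⟨x, x.2, rfl⟩)
      rw [← ha'] at h4
      simpa [mul_assoc] using h4
  by_cases h1 : ρ = 1
  · exact ⟨1, K₁.one_mem, by rw [h1, h.a₂.one]⟩
  · obtain ⟨a, ha, ha0, ha'⟩ := L1 ρ hρ hρ0 h1
    have h4 := hconj a ha ha0 _ h0
    rcases ha' with ha' | ha'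
    · rwa [ha'] at h4
    · rw [ha'] at h4
      have := hinv _ h4
      rwa [inv_inv] at this

theorem alt_mem (h3 : 3 ∣ Nat.card K₁) {ρ : Perm (Fin 5)} (hρ : Perm.sign ρ = 1) (hρ0 : ρ 0 = 0) :
    ∃ x ∈ K₁, f₂ x = ρ := by
  obtain ⟨a, ⟨h1, h2⟩, h4, h5⟩ := L3 ρ hρ hρ0
  obtain ⟨x, hx, hx'⟩ := h.three_mem h3 h1 h2
  obtain ⟨y, hy, hy'⟩ := h.three_mem h3 h4 h5
  refine ⟨x * y, K₁.mul_mem hx hy, ?_⟩
  rw [h.a₂.mul _ (h.memB hx) _ (h.memB hy), hx', hy', mul_inv_cancel_left]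

theorem nine_le (h3 : 3 ∣ Nat.card K₁) : 9 ≤ Nat.card K₁ := by
  classical
  have h1 : ∀ σ : {σ : Perm (Fin 5) // σ ^ 3 = 1 ∧ σ 0 = 0}, ∃ x : K₁, f₂ x = σ := by
    intro σ
    obtain ⟨x, hx, hx'⟩ := h.three_mem h3 σ.2.1 σ.2.2
    exact ⟨⟨x, hx⟩, hx'⟩
  choose g hg using h1
  have hinj : Function.Injective g := by
    intro a b hab
    exact Subtype.ext (by rw [← hg a, ← hg b, hab])
  have h2 := Nat.card_le_card_of_injective g hinj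
  rw [Nat.card_eq_fintype_card, card3] at h2
  exact h2

/-- the possibilities -/
theorem cases {a : ℕ} (ha : a = 60 ∨ a = 120) (hA : Nat.card A = Nat.card K₁ * a) (hD : Nat.card A = 5 * Nat.card D) :
    Nat.card K₁ = 1 ∨ (Nat.card K₁ = 12 ∧ a = 60) ∨ (Nat.card K₁ = 12 ∧ a = 120) ∨ (Nat.card K₁ = 24 ∧ a = 120) := by
  by_cases h3 : 3 ∣ Nat.card K₁
  · right
    have h9 := h.nine_le h3
    have hsup : Nat.card ↥(K₁ ⊔ K₂) = Nat.card K₁ * Nat.card K₁ := by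
      have h1 := card_sup (H := K₁) (N := K₂) ((h.a₁.KC.trans h.a₂.CB).trans h.n₂)
      rw [h.inf, Subgroup.card_bot, mul_one, ← h.card] at h1
      exact h1
    have hdvd : Nat.card ↥(K₁ ⊔ K₂) ∣ Nat.card D := Subgroup.card_dvd_of_le (sup_le h.a₁.KC h.a₂.KC)
    obtain ⟨c, hc⟩ := hdvd
    rw [hsup] at hc
    rw [hA, hc] at hD
    have hk0 : 0 < Nat.card K₁ := Nat.card_pos
    have h5 : a = 5 * (Nat.card K₁ * c) := by
      apply Nat.eq_of_mul_eq_mul_left hk0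
      rw [hD]
      ring
    have hk24 : Nat.card K₁ ≤ 24 := by
      have hc0 : 0 < c := by
        rcases Nat.eq_zero_or_pos c with h0 | h0
        · rw [h0] at h5; omega
        · exact h0
      have : Nat.card K₁ ≤ Nat.card K₁ * c := Nat.le_mul_of_pos_right _ hc0
      omega
    generalize Nat.card K₁ = k at *
    rcases ha with rfl | rfl
    · have h6 : k * c = 12 := by omega
      have h7 : k ∣ 12 := ⟨c, h6.symm⟩
      have h8 : ∀ k ≤ 24, k ∣ 12 → 9 ≤ k → k = 12 := by decide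
      left
      exact ⟨h8 k hk24 h7 h9, rfl⟩
    · have h6 : k * c = 24 := by omega
      have h7 : k ∣ 24 := ⟨c, h6.symm⟩
      have h8 : ∀ k ≤ 24, k ∣ 24 → 9 ≤ k → k = 12 ∨ k = 24 := by decide
      rcases h8 k hk24 h7 h9 with h10 | h10
      · exact Or.inr (Or.inl ⟨h10, rfl⟩)
      · exact Or.inr (Or.inr ⟨h10, rfl⟩)
  · left
    rw [h.three_or h3, Subgroup.card_bot]

/-! ### the case `|A| = 720` -/

theorem exists_V (s₂ : ∀ x ∈ B, Perm.sign (f₂ x) = 1) : ∃ V : Subgroup G, ∀ x, x ∈ V ↔ x ∈ K₁ ∧ x * x = 1 := by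
  have hV4 : ∀ x ∈ K₁, x * x = 1 → V4 (f₂ x) := by
    intro x hx hx2
    have hxB := h.memB hx
    exact ⟨s₂ x hxB, h.a₂.zero (h.a₁.KC hx), by rw [← h.a₂.mul x hxB x hxB, hx2, h.a₂.one]⟩
  refine ⟨{ carrier := {x | x ∈ K₁ ∧ x * x = 1}, one_mem' := ⟨K₁.one_mem, one_mul 1⟩, mul_mem' := ?_, inv_mem' := ?_ },
    fun x => Iff.rfl⟩
  · rintro x y ⟨hx, hx2⟩ ⟨hy, hy2⟩
    have hxB := h.memB hx
    have hyB := h.memB hy
    have hxy := K₁.mul_mem hx hy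
    refine ⟨hxy, h.inj (K₁.mul_mem hxy hxy) K₁.one_mem ?_⟩
    rw [h.a₂.mul _ (B.mul_mem hxB hyB) _ (B.mul_mem hxB hyB), h.a₂.mul _ hxB _ hyB, h.a₂.one]
    exact L5 _ (hV4 x hx hx2) _ (hV4 y hy hy2)
  · rintro x ⟨hx, hx2⟩
    refine ⟨K₁.inv_mem hx, ?_⟩
    rw [← mul_inv_rev, hx2, inv_one]

omit h in
/-- the data of the case `|A| = 720` -/
structure _root_.Cfsg.Agent.H161.Five.Cfg7 (A B D K₁ K₂ V₁ V₂ : Subgroup G) (f₁ f₂ : G → Perm (Fin 5)) : Prop extends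
    Cfg A B D K₁ K₂ f₁ f₂ where
  s₁ : ∀ x ∈ A, Perm.sign (f₁ x) = 1
  s₂ : ∀ x ∈ B, Perm.sign (f₂ x) = 1
  three : 3 ∣ Nat.card K₁
  v₁ : ∀ x, x ∈ V₁ ↔ x ∈ K₁ ∧ x * x = 1
  v₂ : ∀ x, x ∈ V₂ ↔ x ∈ K₂ ∧ x * x = 1
  nV₁ : Nm V₁ = A
  nV₂ : Nm V₂ = B

end Cfg

namespace Cfg7

variable {A B D K₁ K₂ V₁ V₂ : Subgroup G} {f₁ f₂ : G → Perm (Fin 5)} (h : Cfg7 A B D K₁ K₂ V₁ V₂ f₁ f₂)

include h

theorem symm' : Cfg7 B A D K₂ K₁ V₂ V₁ f₂ f₁ :=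
  ⟨h.toCfg.symm, h.s₂, h.s₁, by rw [← h.card]; exact h.three, h.v₂, h.v₁, h.nV₂, h.nV₁⟩

theorem toV4 {x : G} (hx : x ∈ V₁) : V4 (f₂ x) := by
  rw [h.v₁] at hx
  have hxB := h.toCfg.memB hx.1
  exact ⟨h.s₂ x hxB, h.a₂.zero (h.a₁.KC hx.1), by rw [← h.a₂.mul x hxB x hxB, hx.2, h.a₂.one]⟩

theorem ofV4 {σ : Perm (Fin 5)} (hσ : V4 σ) : ∃ x ∈ V₁, f₂ x = σ := by
  obtain ⟨x, hx, rfl⟩ := h.toCfg.alt_mem h.three hσ.1 hσ.2.1
  have hxB := h.toCfg.memB hx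
  refine ⟨x, (h.v₁ x).2 ⟨hx, h.toCfg.inj (K₁.mul_mem hx hx) K₁.one_mem ?_⟩, rfl⟩
  rw [h.a₂.mul _ hxB _ hxB, h.a₂.one]
  exact hσ.2.2

theorem ea : EA V₁ 4 := by
  classical
  refine ⟨?_, ?_, fun x hx => ((h.v₁ x).1 hx).2⟩
  · rw [← card4, ← Nat.card_eq_fintype_card]
    refine Nat.card_congr (Equiv.ofBijective (fun x : V₁ => (⟨f₂ x, h.toV4 x.2⟩ : {σ : Perm (Fin 5) // V4 σ})) ⟨?_, ?_⟩)
    · intro x y hxy
      exact Subtype.ext (h.toCfg.inj ((h.v₁ _).1 x.2).1 ((h.v₁ _).1 y.2).1 (congrArg Subtype.val hxy))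
    · rintro ⟨σ, hσ⟩
      obtain ⟨x, hx, hx'⟩ := h.ofV4 hσ
      exact ⟨⟨x, hx⟩, Subtype.ext hx'⟩
  · intro x hx y hy
    have h1 := ((h.v₁ _).1 hx).2
    have h2 := ((h.v₁ _).1 hy).2
    have h3 := ((h.v₁ _).1 (V₁.mul_mem hx hy)).2
    have h4 : x⁻¹ = x := inv_eq_of_mul_eq_one_left h1
    have h5 : y⁻¹ = y := inv_eq_of_mul_eq_one_left h2
    have h6 : (x * y)⁻¹ = x * y := inv_eq_of_mul_eq_one_left h3
    rw [← h6, mul_inv_rev, h4, h5]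

theorem one₁ {x : G} (hx : x ∈ K₁) : f₁ x = 1 := (h.a₁.ker x (h.a₁.CB (h.a₁.KC hx))).1 hx

theorem VK : V₁ ≤ K₁ := fun x hx => ((h.v₁ x).1 hx).1

theorem VD : V₁ ≤ D := fun _ hx => h.a₁.KC (h.VK hx)

theorem inf' : V₁ ⊓ V₂ = ⊥ := by
  rw [eq_bot_iff]
  intro x hx
  rw [Subgroup.mem_bot]
  exact h.toCfg.eq_one (h.VK hx.1) (h.symm'.VK hx.2)

theorem comm' : ∀ x ∈ V₁, ∀ y ∈ V₂, x * y = y * x := fun _ hx _ hy => h.toCfg.comm (h.VK hx) (h.symm'.VK hy)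

theorem le_of_centralizes {x : G} (hx : x ∈ D) (hc : ∀ k ∈ K₂, x * k = k * x) : x ∈ K₁ := by
  have hxA := h.a₁.CB hx
  rw [h.a₁.ker _ hxA]
  apply L9 _ _ (h.a₁.zero hx)
  intro a ha ha0
  obtain ⟨k, hk, rfl⟩ := h.symm'.toCfg.alt_mem h.symm'.three ha ha0
  have hkA := h.symm'.toCfg.memB hk
  rw [← h.a₁.mul _ hxA _ hkA, ← h.a₁.mul _ hkA _ hxA, hc k hk]

theorem swap {g : G} (hg : cj g K₁ = K₂) (hgD : cj g D = D) : cj g K₂ = K₁ := by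
  apply Subgroup.eq_of_le_of_card_ge
  · intro x hx
    apply h.le_of_centralizes
    · rw [← hgD]
      exact cj_le_cj.2 h.a₂.KC hx
    · intro k hk
      rw [← hg] at hk
      rw [mem_cj] at hx hk
      have h1 := h.toCfg.comm hk hx
      calc x * k = g * ((g⁻¹ * x * g) * (g⁻¹ * k * g)) * g⁻¹ := by group
        _ = g * ((g⁻¹ * k * g) * (g⁻¹ * x * g)) * g⁻¹ := by rw [h1]
        _ = k * x := by group
  · rw [card_cj, h.card]

theorem swapV {g : G} (hg : cj g K₁ = K₂) : cj g V₁ = V₂ := by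
  ext x
  rw [mem_cj, h.v₁, h.v₂, ← mem_cj, hg]
  refine and_congr Iff.rfl ?_
  constructor
  · intro h1
    calc x * x = g * ((g⁻¹ * x * g) * (g⁻¹ * x * g)) * g⁻¹ := by group
      _ = 1 := by rw [h1, mul_one, mul_inv_cancel]
  · intro h1
    calc (g⁻¹ * x * g) * (g⁻¹ * x * g) = g⁻¹ * (x * x) * g := by group
      _ = 1 := by rw [h1, mul_one, inv_mul_cancel]

theorem V_comm_sup : V₁ ≤ Nm V₂ := by
  rw [h.nV₂]
  exact h.VD.trans h.a₂.CB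

theorem centralizer_le : Subgroup.centralizer ((V₁ ⊔ V₂ : Subgroup G) : Set G) ≤ V₁ ⊔ V₂ := by
  intro x hx
  rw [Subgroup.mem_centralizer_iff] at hx
  have h1 : ∀ v ∈ V₁, x * v = v * x := fun v hv => (hx v (Subgroup.mem_sup_left hv)).symm
  have h2 : ∀ v ∈ V₂, x * v = v * x := fun v hv => (hx v (Subgroup.mem_sup_right hv)).symm
  have hxA : x ∈ A := by
    rw [← h.nV₁]
    have h3 : ∀ v ∈ V₁, x * v * x⁻¹ = v := fun v hv => by rw [h1 v hv, mul_inv_cancel_right]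
    rw [mem_Nm]
    ext y
    rw [mem_cj]
    constructor
    · intro hy
      have h4 := h3 _ hy
      have h5 : y = x * (x⁻¹ * y * x) * x⁻¹ := by group
      rw [h5, h4]
      exact hy
    · intro hy
      have h4 := h1 _ hy
      rwa [mul_assoc, ← h4, inv_mul_cancel_left]
  have hxB : x ∈ B := by
    rw [← h.nV₂]
    have h3 : ∀ v ∈ V₂, x * v * x⁻¹ = v := fun v hv => by rw [h2 v hv, mul_inv_cancel_right]
    rw [mem_Nm]
    ext y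
    rw [mem_cj]
    constructor
    · intro hy
      have h4 := h3 _ hy
      have h5 : y = x * (x⁻¹ * y * x) * x⁻¹ := by group
      rw [h5, h4]
      exact hy
    · intro hy
      have h4 := h2 _ hy
      rwa [mul_assoc, ← h4, inv_mul_cancel_left]
  have h3 : V4 (f₂ x) := by
    apply L6
    intro v hv
    obtain ⟨y, hy, rfl⟩ := h.ofV4 hv
    have hyB := h.toCfg.memB (h.VK hy)
    rw [← h.a₂.mul _ hxB _ hyB, ← h.a₂.mul _ hyB _ hxB, h1 y hy]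
  have h4 : V4 (f₁ x) := by
    apply L6
    intro v hv
    obtain ⟨y, hy, rfl⟩ := h.symm'.ofV4 hv
    have hyA := h.symm'.toCfg.memB (h.symm'.VK hy)
    rw [← h.a₁.mul _ hxA _ hyA, ← h.a₁.mul _ hyA _ hxA, h2 y hy]
  obtain ⟨u, hu, hu'⟩ := h.ofV4 h3
  obtain ⟨w, hw, hw'⟩ := h.symm'.ofV4 h4
  have huA : u ∈ A := h.a₁.CB (h.VD hu)
  have huB : u ∈ B := h.a₂.CB (h.VD hu)
  have hwA : w ∈ A := h.a₁.CB (h.symm'.VD hw)
  have hwB : w ∈ B := h.a₂.CB (h.symm'.VD hw)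
  have h5 : x * (u * w)⁻¹ = 1 := by
    apply h.toCfg.eq_one
    · rw [h.a₁.ker _ (A.mul_mem hxA (A.inv_mem (A.mul_mem huA hwA))), h.a₁.mul _ hxA _ (A.inv_mem (A.mul_mem huA hwA)),
        h.a₁.inv (A.mul_mem huA hwA), h.a₁.mul _ huA _ hwA, hw', h.one₁ (h.VK hu), one_mul, mul_inv_cancel]
    · rw [h.a₂.ker _ (B.mul_mem hxB (B.inv_mem (B.mul_mem huB hwB))), h.a₂.mul _ hxB _ (B.inv_mem (B.mul_mem huB hwB)),
        h.a₂.inv (B.mul_mem huB hwB), h.a₂.mul _ huB _ hwB, hu', h.symm'.one₁ (h.symm'.VK hw), mul_one, mul_inv_cancel]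
  rw [mul_inv_eq_one] at h5
  rw [h5]
  exact Subgroup.mul_mem_sup hu hw

theorem D_le₁ : D ≤ Nm V₁ := by
  rw [h.nV₁]
  exact h.a₁.CB

theorem Nm_eq_D : Nm V₁ ⊓ Nm (V₁ ⊔ V₂) = D := by
  apply le_antisymm
  · intro x hx
    have hxA : x ∈ A := by
      rw [← h.nV₁]
      exact hx.1
    rw [h.a₁.stab x hxA]
    apply L7
    intro v hv
    obtain ⟨y, hy, rfl⟩ := h.symm'.ofV4 hv
    have hyA := h.symm'.toCfg.memB (h.symm'.VK hy)
    have h1 : x * y * x⁻¹ ∈ V₁ ⊔ V₂ := le_Nm.1 le_rfl x hx.2 y (Subgroup.mem_sup_right hy)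
    rw [mul_mem_sup_iff h.V_comm_sup] at h1
    obtain ⟨u, hu, w, hw, huw⟩ := h1
    rw [← h.a₁.conj hxA hyA, ← huw, h.a₁.mul _ (h.a₁.CB (h.VD hu)) _ (h.a₁.CB (h.symm'.VD hw)), h.one₁ (h.VK hu), one_mul]
    exact h.symm'.toV4 hw
  · exact le_inf h.D_le₁ (sup_le_Nm h.D_le₁ h.symm'.D_le₁)

/-- a subgroup of index 2 contains `A` -/
theorem le_index_two {H : Subgroup G} (hH : H.index = 2) : A ≤ H := by
  have h2 : ∀ x : G, x * x ∈ H := fun x => by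
    rw [← pow_two]
    exact Subgroup.sq_mem_of_index_two hH x
  have h3 : ∀ x : G, x ^ 3 ∈ H → x ∈ H := by
    intro x hx
    have h4 : x = x ^ 3 * (x * x)⁻¹ := by group
    rw [h4]
    exact H.mul_mem hx (H.inv_mem (h2 x))
  have hK : K₁ ≤ H := by
    intro k hk
    have hkB := h.toCfg.memB hk
    obtain ⟨a, ⟨h4, h5⟩, h6, h7⟩ := L3 (f₂ k) (h.s₂ _ hkB) (h.a₂.zero (h.a₁.KC hk))
    obtain ⟨x, hx, rfl⟩ := h.toCfg.three_mem h.three h4 h5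
    have hxB := h.toCfg.memB hx
    have h8 : x ∈ H := by
      apply h3
      have : x ^ 3 = 1 := h.toCfg.inj (K₁.pow_mem hx 3) K₁.one_mem (by rw [h.a₂.pow hxB, h4, h.a₂.one])
      rw [this]
      exact H.one_mem
    have h9 : x⁻¹ * k ∈ H := by
      apply h3
      have : (x⁻¹ * k) ^ 3 = 1 := by
        apply h.toCfg.inj (K₁.pow_mem (K₁.mul_mem (K₁.inv_mem hx) hk) 3) K₁.one_mem
        rw [h.a₂.pow (B.mul_mem (B.inv_mem hxB) hkB), h.a₂.mul _ (B.inv_mem hxB) _ hkB, h.a₂.inv hxB, h6, h.a₂.one]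
      rw [this]
      exact H.one_mem
    have := H.mul_mem h8 h9
    rwa [mul_inv_cancel_left] at this
  intro x hx
  obtain ⟨a, h4, h5⟩ := L4 (f₁ x) (h.s₁ x hx)
  have h6 : Perm.sign a = 1 := by
    have h7 : Perm.sign a ^ 3 = 1 := by rw [← map_pow, h4, map_one]
    rcases Int.units_eq_one_or (Perm.sign a) with h8 | h8
    · exact h8
    · rw [h8] at h7
      exact absurd h7 (by decide)
  obtain ⟨u, hu, rfl⟩ := h.a₁.alt a h6
  have h8 : u ∈ H := by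
    apply h3
    apply hK
    rw [h.a₁.ker _ (A.pow_mem hu 3), h.a₁.pow hu, h4]
  have h9 : u⁻¹ * x ∈ H := by
    apply h3
    apply hK
    rw [h.a₁.ker _ (A.pow_mem (A.mul_mem (A.inv_mem hu) hx) 3), h.a₁.pow (A.mul_mem (A.inv_mem hu) hx),
      h.a₁.mul _ (A.inv_mem hu) _ hx, h.a₁.inv hu, h5]
  have := H.mul_mem h8 h9
  rwa [mul_inv_cancel_left] at this

end Cfg7

/-- the statement of `e720` -/
def E720 (G : Type*) [Group G] : Prop :=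
  ∀ V₁ V₂ : Subgroup G, EA V₁ 4 → EA V₂ 4 → (∀ x ∈ V₁, ∀ y ∈ V₂, x * y = y * x) → V₁ ⊓ V₂ = ⊥ →
    ∀ g : G, cj g V₁ = V₂ → cj g V₂ = V₁ → Subgroup.centralizer ((V₁ ⊔ V₂ : Subgroup G) : Set G) ≤ V₁ ⊔ V₂ →
    Nat.card ↥(Nm V₁ ⊓ Nm (V₁ ⊔ V₂)) = 144 → Nm V₁ ⊓ Nm (V₁ ⊔ V₂) ≤ Nm V₂ → ∃ H : Subgroup G, H.index = 2

theorem case_one' {A B : Subgroup G} {g : G} (h : NS A B g) (hK : core A (A ⊓ B) ⊓ core B (B ⊓ A) = ⊥)
    (he : E720 G) : Nat.card A = 60 ∨ Nat.card A = 120 ∨ Nat.card A = 1440 ∨ Nat.card A = 2880 := by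
  have hBA : B ⊓ A = A ⊓ B := inf_comm _ _
  have hgK : cj g (core A (A ⊓ B)) = core B (B ⊓ A) := by rw [cj_core, h.gA, h.gD, hBA]
  have hcard : Nat.card (core A (A ⊓ B)) = Nat.card (core B (B ⊓ A)) := by rw [← hgK, card_cj]
  have hrel : (core A (A ⊓ B)).relIndex A = (core B (B ⊓ A)).relIndex B := by
    have h0 := relIndex_cj g (core A (A ⊓ B)) A
    rw [hgK, h.gA] at h0
    exact h0.symm
  have hi : (A ⊓ B).relIndex A = 5 := h.pr.idx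
  have hi' : (B ⊓ A).relIndex B = 5 := h.pr.symm.idx
  obtain ⟨f₁, h1, h2, h3⟩ := exists_act hi inf_le_left h.hA
  obtain ⟨f₂, h4, h5, h6⟩ := exists_act hi' inf_le_left h.hB
  rw [hBA] at h4
  have hcfg : Cfg A B (A ⊓ B) (core A (A ⊓ B)) (core B (A ⊓ B)) f₁ f₂ :=
    ⟨h1, h4, le_Nm_core _ _, le_Nm_core _ _, by rw [← hK, hBA], by rw [hcard, hBA]⟩
  have hA1 : Nat.card A = Nat.card (core A (A ⊓ B)) * (core A (A ⊓ B)).relIndex A :=
    (card_mul_relIndex ((core_le _ _).trans inf_le_left)).symm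
  have hcases := hcfg.cases h2 hA1 h.pr.card_A
  rcases hcases with h7 | ⟨h7, h8⟩ | ⟨h7, h8⟩ | ⟨h7, h8⟩
  · rw [h7, one_mul] at hA1
    rcases h2 with h2 | h2
    · left; rw [hA1, h2]
    · right; left; rw [hA1, h2]
  · exfalso
    have h60 : (core B (B ⊓ A)).relIndex B = 60 := by rw [← hrel, h8]
    have s₁ := h3 h8
    have s₂ := h6 h60
    obtain ⟨V₁, hV₁⟩ := hcfg.exists_V s₂
    obtain ⟨V₂, hV₂⟩ := hcfg.symm.exists_V s₁
    have hN : ∀ (X Y V K : Subgroup G), X ≤ Nm K → (∀ x, x ∈ V ↔ x ∈ K ∧ x * x = 1) → X ≤ Nm V := by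
      intro X Y V K hX hV
      rw [le_Nm] at hX ⊢
      intro x hx v hv
      rw [hV] at hv ⊢
      refine ⟨hX x hx v hv.1, ?_⟩
      calc x * v * x⁻¹ * (x * v * x⁻¹) = x * (v * v) * x⁻¹ := by group
        _ = 1 := by rw [hv.2, mul_one, mul_inv_cancel]
    have hne : ∀ (V K : Subgroup G), Nat.card K = 12 → (∀ x, x ∈ V ↔ x ∈ K ∧ x * x = 1) → V ≠ ⊥ := by
      intro V K hK' hV h0
      have : Fact (Nat.Prime 2) := ⟨Nat.prime_two⟩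
      obtain ⟨x, hx⟩ := exists_prime_orderOf_dvd_card' (G := K) 2 (by rw [hK']; norm_num)
      have hxo : orderOf (x : G) = 2 := by rw [Subgroup.orderOf_coe, hx]
      have h9 : (x : G) ∈ V := (hV _).2 ⟨x.2, by rw [← pow_two, ← hxo, pow_orderOf_eq_one]⟩
      rw [h0, Subgroup.mem_bot] at h9
      rw [h9, orderOf_one] at hxo
      omega
    have nV₁ : Nm V₁ = A := h.pr.Nm_eq (fun x hx => (core_le A (A ⊓ B) ((hV₁ x).1 hx).1).1) (hne V₁ _ h7 hV₁)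
      (hN A B V₁ _ (le_Nm_core _ _) hV₁)
    have nV₂ : Nm V₂ = B := h.pr.symm.Nm_eq (fun x hx => (core_le B (A ⊓ B) ((hV₂ x).1 hx).1).2)
      (hne V₂ _ (by rw [← hBA, ← hcard, h7]) hV₂) (hN B A V₂ _ (le_Nm_core _ _) hV₂)
    have hc7 : Cfg7 A B (A ⊓ B) (core A (A ⊓ B)) (core B (A ⊓ B)) V₁ V₂ f₁ f₂ :=
      ⟨hcfg, s₁, s₂, by rw [h7]; norm_num, hV₁, hV₂, nV₁, nV₂⟩
    have hg₁ : cj g (core A (A ⊓ B)) = core B (A ⊓ B) := by rw [hgK, hBA]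
    have hg₂ := hc7.swap hg₁ h.gD
    obtain ⟨H, hH⟩ := he V₁ V₂ hc7.ea hc7.symm'.ea hc7.comm' hc7.inf' g (hc7.swapV hg₁) (hc7.symm'.swapV hg₂)
      hc7.centralizer_le (by
        rw [hc7.Nm_eq_D]
        have h9 := h.pr.card_A
        rw [hA1, h7, h8] at h9
        omega) (by rw [hc7.Nm_eq_D]; exact hc7.symm'.D_le₁)
    exact h.pr.not_le_index_two hH (hc7.le_index_two hH)
  · right; right; left
    rw [hA1, h7, h8]
  · right; right; right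
    rw [hA1, h7, h8]

end Cfsg.Agent.H161.Five
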